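import Mathlib
import Groth.Agent.FlatLocus.Basic
import Groth.Prelude.Def_RegImm

universe u
open AlgebraicGeometry CategoryTheory Limits TensorProduct

set_option backward.isDefEq.respectTransparency.types false

namespace Groth.Agent.SmallFlat

theorem flat_of_faithfullyFlat_tower (A B C : Type u) [CommRing A] [CommRing B] [CommRing C]
    [Algebra A B] [Algebra B C] [Algebra A C] [IsScalarTower A B C] [Module.FaithfullyFlat B C]
    [Module.Flat A C] : Module.Flat A B := by
  rw [Module.Flat.iff_lTensor_preserves_injective_linearMap]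
  intro M N _ _ _ _ f hf
  let g : (B ⊗[A] M) →ₗ[B] (B ⊗[A] N) := TensorProduct.AlgebraTensorModule.lTensor B B f
  have hC : Function.Injective (g.lTensor C) := by
    have h1 : ∀ z, (TensorProduct.AlgebraTensorModule.cancelBaseChange A B B C N) (g.lTensor C z) =
        f.lTensor C ((TensorProduct.AlgebraTensorModule.cancelBaseChange A B B C M) z) := by
      intro z
      induction z using TensorProduct.induction_on with
      | zero => simp
      | tmul c w =>
        induction w using TensorProduct.induction_on with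
        | zero => simp
        | tmul b m => simp [g]
        | add w w' hw hw' => rw [tmul_add, map_add, map_add, map_add, map_add, hw, hw']
      | add z z' hz hz' => simp [map_add, hz, hz']
    intro z z' h
    apply (TensorProduct.AlgebraTensorModule.cancelBaseChange A B B C M).injective
    apply Module.Flat.lTensor_preserves_injective_linearMap (M := C) f hf
    rw [← h1, ← h1, h]
  exact (Module.FaithfullyFlat.lTensor_injective_iff_injective B C g).1 hC

theorem flat_diagonal_descends {X Y Z : Scheme.{u}} (f : X ⟶ Y) (g : Y ⟶ Z) [Flat f] [Surjective f]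
    [Flat (pullback.diagonal (f ≫ g))] : Flat (pullback.diagonal g) := by
  let a : pullback (f ≫ g) (f ≫ g) ⟶ pullback g (f ≫ g) :=
    pullback.map _ _ _ _ f (𝟙 X) (𝟙 Z) (by simp) (by simp)
  let b : pullback g (f ≫ g) ⟶ pullback g g :=
    pullback.map _ _ _ _ (𝟙 Y) f (𝟙 Z) (by simp) (by simp)
  have ha : Flat a := by
    have hbig : IsPullback (pullback.snd (f ≫ g) (f ≫ g)) (pullback.fst (f ≫ g) (f ≫ g)) (f ≫ g) (f ≫ g) :=
      (IsPullback.of_hasPullback (f ≫ g) (f ≫ g)).flip
    have hbig' : IsPullback (a ≫ pullback.snd g (f ≫ g)) (pullback.fst (f ≫ g) (f ≫ g)) (f ≫ g) (f ≫ g) := by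
      rw [show a ≫ pullback.snd g (f ≫ g) = pullback.snd _ _ from (pullback.lift_snd _ _ _).trans (Category.comp_id _)]
      exact hbig
    have h : IsPullback a (pullback.fst (f ≫ g) (f ≫ g)) (pullback.fst g (f ≫ g)) f :=
      IsPullback.of_right hbig' (pullback.lift_fst _ _ _) (IsPullback.of_hasPullback g (f ≫ g)).flip
    exact MorphismProperty.of_isPullback (P := (@Flat : MorphismProperty Scheme.{u})) h.flip ‹Flat f›
  have hb : Flat b := by
    have hbig' : IsPullback (b ≫ pullback.fst g g) (pullback.snd g (f ≫ g)) g (f ≫ g) := by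
      rw [show b ≫ pullback.fst g g = pullback.fst _ _ from (pullback.lift_fst _ _ _).trans (Category.comp_id _)]
      exact IsPullback.of_hasPullback g (f ≫ g)
    have h : IsPullback b (pullback.snd g (f ≫ g)) (pullback.snd g g) f :=
      IsPullback.of_right hbig' (pullback.lift_snd _ _ _) (IsPullback.of_hasPullback g g)
    exact MorphismProperty.of_isPullback (P := (@Flat : MorphismProperty Scheme.{u})) h.flip ‹Flat f›
  have hcomp : pullback.diagonal (f ≫ g) ≫ a ≫ b = f ≫ pullback.diagonal g := by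
    apply pullback.hom_ext
    · rw [Category.assoc, Category.assoc, Category.assoc, pullback.diagonal_fst, Category.comp_id,
        show b ≫ pullback.fst g g = pullback.fst _ _ from (pullback.lift_fst _ _ _).trans (Category.comp_id _),
        show a ≫ pullback.fst g (f ≫ g) = pullback.fst _ _ ≫ f from pullback.lift_fst _ _ _,
        pullback.diagonal_fst_assoc]
    · rw [Category.assoc, Category.assoc, Category.assoc, pullback.diagonal_snd, Category.comp_id,
        show b ≫ pullback.snd g g = pullback.snd _ _ ≫ f from pullback.lift_snd _ _ _,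
        ← Category.assoc a, show a ≫ pullback.snd g (f ≫ g) = pullback.snd _ _ from
          (pullback.lift_snd _ _ _).trans (Category.comp_id _),
        pullback.diagonal_snd_assoc]
  have : Flat (f ≫ pullback.diagonal g) := hcomp ▸ inferInstance
  rw [Flat.iff_flat_stalkMap]
  intro y
  obtain ⟨x, rfl⟩ := f.surjective y
  let A := (pullback g g).presheaf.stalk (pullback.diagonal g (f x))
  let B := Y.presheaf.stalk (f x)
  let C := X.presheaf.stalk x
  let _ : Algebra A B := ((pullback.diagonal g).stalkMap (f x)).hom.toAlgebra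
  let _ : Algebra B C := (f.stalkMap x).hom.toAlgebra
  let _ : Algebra A C := (((pullback.diagonal g).stalkMap (f x)) ≫ f.stalkMap x).hom.toAlgebra
  have : IsScalarTower A B C := IsScalarTower.of_algebraMap_eq fun _ => rfl
  have : IsLocalHom (algebraMap B C) := f.toLRSHom.prop x
  have : Module.Flat B C := Flat.stalkMap f x
  have : Module.FaithfullyFlat B C := Module.FaithfullyFlat.of_flat_of_isLocalHom
  have : Module.Flat A C := by
    have := Flat.stalkMap (f ≫ pullback.diagonal g) x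
    rw [Scheme.Hom.stalkMap_comp] at this
    exact this
  exact flat_of_faithfullyFlat_tower A B C

theorem exists_isIso_restrict_of_flat_at {X Y : Scheme.{u}} (f : X ⟶ Y) [IsClosedImmersion f]
    [LocallyOfFinitePresentation f] (x : X) (hflat : (f.stalkMap x).hom.Flat) :
    ∃ V : Y.Opens, f x ∈ V ∧ IsIso (f ∣_ V) := by
  have hW := FlatLocus.isOpen_flat_locus f
  obtain ⟨O, hO, hOW⟩ := f.isClosedEmbedding.isEmbedding.isInducing.isOpen_iff.1 hW
  let V₀ : Y.Opens := ⟨O, hO⟩
  have hx₀ : f x ∈ V₀ := by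
    show x ∈ f ⁻¹' O
    rw [hOW]; exact hflat
  have hfl : Flat (f ∣_ V₀) := by
    rw [Flat.iff_flat_stalkMap]
    intro z
    have hz : (f.stalkMap ((f ⁻¹ᵁ V₀).ι z)).hom.Flat := by
      have : (f ⁻¹ᵁ V₀).ι z ∈ f ⁻¹' O := (z : (f ⁻¹ᵁ V₀ : X.Opens)).2
      rwa [hOW] at this
    exact ((RingHom.toMorphismProperty RingHom.Flat).arrow_mk_iso_iff (morphismRestrictStalkMap f V₀ z)).2 hz
  have hoi : IsOpenImmersion (f ∣_ V₀) := IsOpenImmersion.of_flat_of_mono _
  let V : Y.Opens := V₀.ι ''ᵁ (f ∣_ V₀).opensRange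
  have hxV : f x ∈ V := by
    let z : (f ⁻¹ᵁ V₀).toScheme := (⟨x, hx₀⟩ : (f ⁻¹ᵁ V₀ : X.Opens))
    refine ⟨(f ∣_ V₀) z, ⟨z, rfl⟩, ?_⟩
    have := congrArg (fun h : (f ⁻¹ᵁ V₀).toScheme ⟶ Y => h z) (morphismRestrict_ι f V₀)
    exact this
  refine ⟨V, hxV, ?_⟩
  have hVle : V ≤ V₀ := V₀.ι_image_le _
  have : IsOpenImmersion (f ∣_ V) := by
    have hflV : Flat (f ∣_ V) := by
      rw [Flat.iff_flat_stalkMap]
      intro z
      have hz : (f.stalkMap ((f ⁻¹ᵁ V).ι z)).hom.Flat := by
        have hzV : f ((f ⁻¹ᵁ V).ι z) ∈ V := (z : (f ⁻¹ᵁ V : X.Opens)).2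
        have : (f ⁻¹ᵁ V).ι z ∈ f ⁻¹' O := hVle hzV
        rwa [hOW] at this
      exact ((RingHom.toMorphismProperty RingHom.Flat).arrow_mk_iso_iff (morphismRestrictStalkMap f V z)).2 hz
    exact IsOpenImmersion.of_flat_of_mono _
  have : Surjective (f ∣_ V) := ⟨fun v => by
    obtain ⟨w, ⟨z, hz⟩, hw⟩ := (v : (V : Y.Opens)).2
    have hfz : f ((f ⁻¹ᵁ V₀).ι z) = V.ι v := by
      have := congrArg (fun h : (f ⁻¹ᵁ V₀).toScheme ⟶ Y => h z) (morphismRestrict_ι f V₀)
      rw [Scheme.Hom.comp_apply, Scheme.Hom.comp_apply, hz] at this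
      exact this.symm.trans hw
    let z' : (f ⁻¹ᵁ V).toScheme := (⟨(f ⁻¹ᵁ V₀).ι z, by
      show f ((f ⁻¹ᵁ V₀).ι z) ∈ V
      rw [hfz]; exact (v : (V : Y.Opens)).2⟩ : (f ⁻¹ᵁ V : X.Opens))
    refine ⟨z', V.ι.isOpenEmbedding.injective ?_⟩
    have := congrArg (fun h : (f ⁻¹ᵁ V).toScheme ⟶ Y => h z') (morphismRestrict_ι f V)
    exact this.trans hfz⟩
  exact isIso_of_isOpenImmersion_of_opensRange_eq_top _
    (TopologicalSpace.Opens.ext (f ∣_ V).surjective.range_eq)

theorem flat_of_ker_eq_bot {X Y : Scheme.{u}} {P : Type u} [CommRing P] [IsPrincipalIdealRing P] [IsDomain P]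
    (f : X ⟶ Y) (g : Y ⟶ Spec (CommRingCat.of P)) [QuasiCompact f] (hker : f.ker = ⊥)
    [Flat (f ≫ g)] : Flat g := by
  rw [IsZariskiLocalAtSource.iff_of_iSup_eq_top (P := @Flat) (fun W : Y.affineOpens => W.1)
    (iSup_affineOpens_eq_top Y)]
  rintro ⟨W, hW⟩
  have : IsAffine W.toScheme := hW
  rw [HasRingHomProperty.iff_of_isAffine (P := @Flat)]
  let ρ := (Scheme.ΓSpecIso (CommRingCat.of P)).inv ≫ g.appLE ⊤ W le_top
  suffices hρ : ρ.hom.Flat by
    have he : (W.ι ≫ g).appTop = g.appLE ⊤ W le_top ≫ W.topIso.inv := by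
      rw [Scheme.Hom.comp_appTop, Scheme.Opens.topIso, Functor.mapIso_inv]
      refine Eq.trans ?_ (Scheme.Hom.appLE_map g (le_top : W ≤ g ⁻¹ᵁ ⊤) _).symm
      rfl
    rw [he, FlatLocus.flat_comp_isIso]
    exact (FlatLocus.flat_isIso_comp _ _).1 hρ
  let _ : Algebra P Γ(Y, W) := ρ.hom.toAlgebra
  change Module.Flat P Γ(Y, W)
  rw [Module.Flat.flat_iff_torsion_eq_bot_of_isBezout, eq_bot_iff]
  rintro m ⟨⟨a, ha⟩, ham⟩
  rw [Submodule.mem_bot]
  have ha0 : a ≠ 0 := nonZeroDivisors.ne_zero ha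
  have ham' : ρ.hom a * m = 0 := ham
  suffices h : f.app W m = 0 by
    have h1 : m ∈ f.ker.ideal ⟨W, hW⟩ := by
      rw [Scheme.Hom.ker_apply]
      exact h
    rw [hker] at h1
    simpa using h1
  refine X.sheaf.eq_of_locally_eq' (fun V : {V : X.affineOpens // V.1 ≤ f ⁻¹ᵁ W} => V.1.1) (f ⁻¹ᵁ W)
    (fun V => homOfLE V.2) ?_ _ _ ?_
  · intro x hx
    obtain ⟨V, hV, hxV, hVW⟩ := exists_isAffineOpen_mem_and_subset hx
    exact TopologicalSpace.Opens.mem_iSup.2 ⟨⟨⟨V, hV⟩, hVW⟩, hxV⟩
  · rintro ⟨⟨V, hV⟩, hVW⟩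
    let r := f.appLE W V hVW
    have hfl : ((f ≫ g).appLE ⊤ V le_top).hom.Flat :=
      HasRingHomProperty.appLE @Flat (f ≫ g) inferInstance ⟨⊤, isAffineOpen_top _⟩ ⟨V, hV⟩ le_top
    have hfl2 : (ρ ≫ r).hom.Flat := by
      have : g.appLE ⊤ W le_top ≫ r = (f ≫ g).appLE ⊤ V le_top := Scheme.Hom.appLE_comp_appLE _ _ _ _ _ _ _
      simp only [ρ, Category.assoc, this]
      exact (FlatLocus.flat_isIso_comp _ _).2 hfl
    let _ : Algebra P Γ(X, V) := (ρ ≫ r).hom.toAlgebra
    have : Module.Flat P Γ(X, V) := hfl2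
    have h2 : a • r.hom m = 0 := by
      show (ρ ≫ r).hom a * r.hom m = 0
      rw [CommRingCat.hom_comp, RingHom.comp_apply, ← map_mul, ham', map_zero]
    have h3 : r.hom m ∈ Submodule.torsion P Γ(X, V) := ⟨⟨a, ha⟩, h2⟩
    rw [Module.Flat.torsion_eq_bot, Submodule.mem_bot] at h3
    refine Eq.trans ?_ (map_zero _).symm
    exact h3

theorem isSyntomic_adjoinRoot (p : ℕ) (hp : 0 < p) (A : Type u) [CommRing A] (a : A)
    (hlci : ∀ q : PrimeSpectrum A, Synt.IsLCIOver q.asIdeal.ResidueField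
      (q.asIdeal.Fiber (AdjoinRoot (Polynomial.X ^ p - Polynomial.C a)))) :
    Synt.IsSyntomic A (AdjoinRoot (Polynomial.X ^ p - Polynomial.C a)) ∧
      Module.FaithfullyFlat A (AdjoinRoot (Polynomial.X ^ p - Polynomial.C a)) := by
  have hm : (Polynomial.X ^ p - Polynomial.C a : Polynomial A).Monic :=
    Polynomial.monic_X_pow_sub_C a hp.ne'
  have := hm.free_adjoinRoot
  have := hm.finite_adjoinRoot
  have : Module.FinitePresentation A (AdjoinRoot (Polynomial.X ^ p - Polynomial.C a)) :=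
    Module.finitePresentation_of_projective _ _
  refine ⟨⟨inferInstance, inferInstance, hlci⟩, ?_⟩
  rcases subsingleton_or_nontrivial A with h | h
  · exact { submodule_ne_top := fun m hm' => (hm'.ne_top (Subsingleton.elim _ _)).elim }
  · let b := (AdjoinRoot.powerBasis' hm).basis
    have : Nonempty (Fin (AdjoinRoot.powerBasis' hm).dim) := by
      rw [AdjoinRoot.powerBasis'_dim, Polynomial.natDegree_X_pow_sub_C]
      exact ⟨⟨0, hp⟩⟩
    have : Nontrivial (AdjoinRoot (Polynomial.X ^ p - Polynomial.C a)) :=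
      b.repr.toEquiv.nontrivial
    infer_instance

theorem isGlobalCI_fibre (p : ℕ) (hp : 0 < p) (A : Type u) [CommRing A] (a : A) (K : Type u) [Field K]
    [Algebra A K] :
    Synt.IsGlobalCI K (K ⊗[A] AdjoinRoot (Polynomial.X ^ p - Polynomial.C a)) := by
  classical
  let f : Polynomial A := Polynomial.X ^ p - Polynomial.C a
  have hm : f.Monic := Polynomial.monic_X_pow_sub_C a hp.ne'
  let S := AdjoinRoot f
  have := hm.free_adjoinRoot
  have := hm.finite_adjoinRoot
  let T := K ⊗[A] S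
  let g : Polynomial K := Polynomial.X ^ p - Polynomial.C (algebraMap A K a)
  have hg : g.Monic := Polynomial.monic_X_pow_sub_C _ hp.ne'
  rcases subsingleton_or_nontrivial A with hA | hA
  · have : Subsingleton K := (algebraMap A K).codomain_trivial
    exact absurd this (not_subsingleton K)
  have ht : Polynomial.aeval ((1 : K) ⊗ₜ[A] AdjoinRoot.root f) g = 0 := by
    have h0 := congrArg (Algebra.TensorProduct.includeRight (R := A) (A := K)) (AdjoinRoot.aeval_eq (f := f) f)
    rw [AdjoinRoot.mk_self, map_zero, ← Polynomial.aeval_algHom_apply] at h0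
    rw [← h0]
    simp [g, f, IsScalarTower.algebraMap_apply A K T]
  let ψ : AdjoinRoot g →ₐ[K] T := AdjoinRoot.liftAlgHom g (Algebra.ofId K T) ((1 : K) ⊗ₜ AdjoinRoot.root f) ht
  have hgen : Function.Surjective ψ := by
    rw [← AlgHom.range_eq_top, eq_top_iff]
    rintro z -
    induction z using TensorProduct.induction_on with
    | zero => exact zero_mem _
    | add x y hx hy => exact add_mem hx hy
    | tmul c s =>
      obtain ⟨q, rfl⟩ := AdjoinRoot.mk_surjective s
      refine ⟨algebraMap K _ c * AdjoinRoot.mk g (q.map (algebraMap A K)), ?_⟩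
      show ψ _ = _
      rw [map_mul, AlgHom.commutes]
      have h1 : ψ (AdjoinRoot.mk g (q.map (algebraMap A K))) = (1 : K) ⊗ₜ[A] AdjoinRoot.mk f q := by
        show AdjoinRoot.liftAlgHom g (Algebra.ofId K T) _ ht _ = _
        rw [AdjoinRoot.liftAlgHom_mk, Polynomial.eval₂_map]
        have := Polynomial.aeval_algHom_apply (Algebra.TensorProduct.includeRight (R := A) (A := K) (B := S)) (AdjoinRoot.root f) q
        rw [AdjoinRoot.aeval_eq] at this
        rw [← show _ = (1 : K) ⊗ₜ[A] AdjoinRoot.mk f q from this, Polynomial.aeval_def]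
        congr 1
      rw [h1]
      show (algebraMap K T c) * (1 : K) ⊗ₜ[A] AdjoinRoot.mk f q = c ⊗ₜ[A] AdjoinRoot.mk f q
      rw [Algebra.TensorProduct.algebraMap_apply, Algebra.algebraMap_self, RingHom.id_apply,
        Algebra.TensorProduct.tmul_mul_tmul, mul_one, one_mul]
  have hdim : Module.finrank K (AdjoinRoot g) = Module.finrank K T := by
    rw [Module.finrank_baseChange, (AdjoinRoot.powerBasis' hm).finrank, (AdjoinRoot.powerBasis' hg).finrank,
      AdjoinRoot.powerBasis'_dim, AdjoinRoot.powerBasis'_dim, Polynomial.natDegree_X_pow_sub_C,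
      Polynomial.natDegree_X_pow_sub_C]
  have := hg.finite_adjoinRoot
  have hbij : Function.Bijective ψ :=
    ⟨(LinearMap.injective_iff_surjective_of_finrank_eq_finrank hdim (f := ψ.toLinearMap)).2 hgen, hgen⟩
  let e : MvPolynomial (Fin 1) K ≃ₐ[K] Polynomial K := MvPolynomial.uniqueAlgEquiv K (Fin 1)
  let mk : Polynomial K →ₐ[K] AdjoinRoot g := AdjoinRoot.mkₐ g
  let φ : MvPolynomial (Fin 1) K →ₐ[K] T := ψ.comp (mk.comp e.toAlgHom)
  refine Or.inr ⟨1, 1, le_rfl, φ, fun _ => e.symm g,
    hgen.comp (AdjoinRoot.mk_surjective.comp e.surjective), ?_, ?_⟩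
  · ext x
    rw [RingHom.mem_ker, Set.range_const, Ideal.mem_span_singleton]
    show ψ (AdjoinRoot.mk g (e x)) = 0 ↔ _
    rw [map_eq_zero_iff ψ hbij.1, AdjoinRoot.mk_eq_zero]
    constructor
    · rintro ⟨c, hc⟩
      exact ⟨e.symm c, e.injective (by rw [map_mul, e.apply_symm_apply, e.apply_symm_apply, hc])⟩
    · rintro ⟨c, rfl⟩
      exact ⟨e c, by rw [map_mul, e.apply_symm_apply]⟩
  · have : Module.Finite K T := inferInstance
    have : IsArtinianRing T := isArtinian_of_tower K inferInstance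
    have : Nontrivial T := by
      have : 0 < Module.finrank K T := by
        rw [← hdim, (AdjoinRoot.powerBasis' hg).finrank, AdjoinRoot.powerBasis'_dim,
          Polynomial.natDegree_X_pow_sub_C]
        exact hp
      exact Module.nontrivial_of_finrank_pos this
    simpa using (ringKrullDimZero_iff_ringKrullDim_eq_zero (R := T)).1 inferInstance

end Groth.Agent.SmallFlat
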