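import Groth.Agent.SmallFlat.Misc

universe u
open TensorProduct

namespace Groth.Agent.SmallFlat

theorem isLCIOver_of_isGlobalCI {k S : Type u} [Field k] [CommRing S] [Algebra k S]
    [Algebra.FiniteType k S] (h : Synt.IsGlobalCI k S) : Synt.IsLCIOver k S := by
  refine ⟨inferInstance, fun p => ⟨1, fun h1 => p.isPrime.ne_top ((Ideal.eq_top_iff_one _).2 h1), ?_⟩⟩
  let e : S ≃ₐ[k] Localization.Away (1 : S) :=
    (IsLocalization.atUnit S (Localization.Away (1 : S)) 1 isUnit_one).restrictScalars k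
  rcases h with h | ⟨n, c, hcn, φ, r, hφ, hker, hdim⟩
  · exact Or.inl e.symm.toEquiv.subsingleton
  · refine Or.inr ⟨n, c, hcn, e.toAlgHom.comp φ, r, e.surjective.comp hφ, ?_, ?_⟩
    · rw [← hker]
      ext x
      exact map_eq_zero_iff e e.injective
    · rw [← hdim]
      exact (ringKrullDim_eq_of_ringEquiv e.toRingEquiv).symm

theorem isSyntomic_adjoinRoot' (p : ℕ) (hp : 0 < p) (A : Type u) [CommRing A] (a : A) :
    Synt.IsSyntomic A (AdjoinRoot (Polynomial.X ^ p - Polynomial.C a)) ∧
      Module.FaithfullyFlat A (AdjoinRoot (Polynomial.X ^ p - Polynomial.C a)) := by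
  refine isSyntomic_adjoinRoot p hp A a fun q => ?_
  have := (Polynomial.monic_X_pow_sub_C a hp.ne').finite_adjoinRoot
  exact isLCIOver_of_isGlobalCI (isGlobalCI_fibre p hp A a q.asIdeal.ResidueField)

end Groth.Agent.SmallFlat
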