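import Mathlib
import Groth.Agent.FibDim.Semicont
import Groth.Agent.FibDim.BaseChange

universe u
open AlgebraicGeometry CategoryTheory Topology

namespace Groth.Agent.SmallFlat

theorem exists_generic {X : Scheme.{u}} {Z : Set X} (hZ : Z ∈ irreducibleComponents X) :
    ∃ ζ : X, closure {ζ} = Z ∧ ∀ x', x' ⤳ ζ → x' = ζ := by
  have hirr : IsIrreducible Z := hZ.1
  have hcl : IsClosed Z := isClosed_of_mem_irreducibleComponents Z hZ
  have hg := hirr.isGenericPoint_genericPoint_closure
  rw [hcl.closure_eq] at hg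
  refine ⟨hirr.genericPoint, hg.def, fun x' h => ?_⟩
  have hsub : Z ⊆ closure {x'} := by
    rw [← hg.def]
    exact closure_minimal (by simpa using specializes_iff_mem_closure.1 h) isClosed_closure
  have hsub' := hZ.2 isIrreducible_singleton.closure hsub
  have h2 : hirr.genericPoint ⤳ x' := by
    rw [specializes_iff_mem_closure, hg.def]
    exact hsub' (subset_closure rfl)
  exact (h.antisymm h2).eq

theorem closure_mem_components {X : Scheme.{u}} {ζ : X} (h : ∀ x', x' ⤳ ζ → x' = ζ) :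
    closure ({ζ} : Set X) ∈ irreducibleComponents X := by
  refine ⟨isIrreducible_singleton.closure, fun s hs hle => ?_⟩
  have hg := hs.isGenericPoint_genericPoint_closure
  have h1 : hs.genericPoint ⤳ ζ := by
    rw [specializes_iff_mem_closure, hg.def]
    exact subset_closure (hle (subset_closure rfl))
  rw [← h _ h1, hg.def]
  exact subset_closure

theorem max_of_flat {X Y : Scheme.{u}} (f : X ⟶ Y) [Flat f] {ζ : X} (h : ∀ x', x' ⤳ ζ → x' = ζ)
    {y : Y} (hy : y ⤳ f ζ) : y = f ζ := by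
  obtain ⟨x', h1, h2⟩ := (Flat.generalizingMap f) hy
  rw [← h2, h x' h1]

theorem preimage_component {X Y : Scheme.{u}} (f : X ⟶ Y) [Flat f]
    (Y' : Set Y) (hY' : Y' ∈ irreducibleComponents Y) :
    f ⁻¹' Y' = ⋃₀ {Z : Set X | Z ∈ irreducibleComponents X ∧ f '' Z ⊆ Y'} := by
  refine Set.Subset.antisymm (fun x hx => ?_) ?_
  · obtain ⟨η, hη, hηmax⟩ := exists_generic hY'
    have h1 : η ⤳ f x := by rw [specializes_iff_mem_closure, hη]; exact hx
    obtain ⟨x', hx', hfx'⟩ := (Flat.generalizingMap f) h1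
    have hZ : irreducibleComponent x' ∈ irreducibleComponents X :=
      irreducibleComponent_mem_irreducibleComponents x'
    obtain ⟨ζ, hζ, hζmax⟩ := exists_generic hZ
    have h2 : ζ ⤳ x' := by rw [specializes_iff_mem_closure, hζ]; exact mem_irreducibleComponent
    have h3 : f ζ = η := hηmax _ (hfx' ▸ h2.map f.continuous)
    refine ⟨_, ⟨hZ, ?_⟩, ?_⟩
    · rw [← hζ, ← hη, ← h3]
      exact (image_closure_subset_closure_image f.continuous).trans (by rw [Set.image_singleton])
    · exact hx'.mem_closed isClosed_irreducibleComponent mem_irreducibleComponent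
  · rintro x ⟨Z, ⟨-, hZ⟩, hx⟩
    exact hZ ⟨x, hx, rfl⟩

theorem mem_generic_fibre_iff {X Y : Scheme.{u}} [IrreducibleSpace Y] (f : X ⟶ Y)
    [Flat f] [LocallyQuasiFinite f] (x : X) :
    f x = genericPoint Y ↔ closure ({x} : Set X) ∈ irreducibleComponents X := by
  constructor
  · intro hx
    refine closure_mem_components fun x' h => ?_
    have h1 : f x' = f x := ((h.map f.continuous).antisymm (by
      rw [hx]; exact genericPoint_specializes _)).eq
    exact (f.isDiscrete_preimage_singleton (f x)).eq_of_specializes h h1 rfl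
  · intro hx
    obtain ⟨ζ, hζ, hmax⟩ := exists_generic hx
    have : ζ = x := by
      have h1 : ζ ⤳ x := by rw [specializes_iff_mem_closure, hζ]; exact subset_closure rfl
      have h2 : x ⤳ ζ := by rw [specializes_iff_mem_closure, ← hζ]; exact subset_closure rfl
      exact (h1.antisymm h2).eq
    subst this
    exact (max_of_flat f hmax (genericPoint_specializes _)).symm

theorem locallyFinite_components {X Y : Scheme.{u}} (f : X ⟶ Y)
    [Flat f] [LocallyOfFiniteType f] [LocallyQuasiFinite f]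
    (hY : LocallyFinite (fun Z : ↥(irreducibleComponents ↥Y) => (Z : Set ↥Y))) :
    LocallyFinite (fun Z : ↥(irreducibleComponents ↥X) => (Z : Set ↥X)) := by
  intro x
  obtain ⟨t, ht, hfin⟩ := hY (f x)
  obtain ⟨t', ht't, ht'o, hxt'⟩ := mem_nhds_iff.1 ht
  obtain ⟨V, hV, hxV, hVt⟩ := exists_isAffineOpen_mem_and_subset (U := (⟨t', ht'o⟩ : Y.Opens)) (x := f x) hxt'
  obtain ⟨U, hU, hxU, hUV⟩ := exists_isAffineOpen_mem_and_subset (U := f ⁻¹ᵁ V) (x := x) hxV
  refine ⟨U, U.2.mem_nhds hxU, ?_⟩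
  let G : Set Y := (fun Z : {Z : ↥(irreducibleComponents ↥Y) // ((Z : Set Y) ∩ t).Nonempty} =>
    (exists_generic Z.1.2).choose) '' Set.univ
  have : Finite {Z : ↥(irreducibleComponents ↥Y) // ((Z : Set Y) ∩ t).Nonempty} := hfin.to_subtype
  have hG : G.Finite := Set.finite_univ.image _
  have hUV' : U ≤ f ⁻¹ᵁ V := hUV
  let g := f.resLE V U hUV'
  have : IsAffine U.toScheme := hU
  have : IsAffine V.toScheme := hV
  have : LocallyQuasiFinite g := inferInstanceAs (LocallyQuasiFinite (f.resLE V U hUV'))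
  have hF : (⋃ y ∈ G, (U : Set X) ∩ f ⁻¹' {y}).Finite := by
    refine hG.biUnion fun y _ => ?_
    rcases Set.eq_empty_or_nonempty ((U : Set X) ∩ f ⁻¹' {y}) with h | ⟨z, hzU, hz⟩
    · rw [h]; exact Set.finite_empty
    let v : V.toScheme := (⟨y, hz ▸ hUV hzU⟩ : V)
    refine ((g.finite_preimage_singleton v).image U.ι).subset ?_
    rintro w ⟨hwU, hw⟩
    let w' : U.toScheme := (⟨w, hwU⟩ : U)
    refine ⟨w', V.ι.isOpenEmbedding.injective ?_, rfl⟩
    have h1 : (g ≫ V.ι) w' = (U.ι ≫ f) w' :=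
      congrArg (fun h : U.toScheme ⟶ Y => h w') (f.resLE_comp_ι hUV')
    rw [Scheme.Hom.comp_apply, Scheme.Hom.comp_apply] at h1
    exact h1.trans hw
  have hsub : ∀ Z : ↥(irreducibleComponents ↥X), ((Z : Set X) ∩ (U : Set X)).Nonempty →
      (exists_generic Z.2).choose ∈ ⋃ y ∈ G, (U : Set X) ∩ f ⁻¹' {y} := by
    intro Z ⟨z, hzZ, hzU⟩
    obtain ⟨hζ, hmax⟩ := (exists_generic Z.2).choose_spec
    set ζ := (exists_generic Z.2).choose
    have h1 : ζ ⤳ z := by rw [specializes_iff_mem_closure, hζ]; exact hzZ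
    have hζU : ζ ∈ U := h1.mem_open U.2 hzU
    have hcomp : closure {f ζ} ∈ irreducibleComponents ↥Y :=
      closure_mem_components fun y hy => max_of_flat f hmax hy
    let Z' : {Z : ↥(irreducibleComponents ↥Y) // ((Z : Set Y) ∩ t).Nonempty} :=
      ⟨⟨_, hcomp⟩, f ζ, subset_closure rfl, ht't (hVt (hUV hζU))⟩
    have hgen : (exists_generic Z'.1.2).choose = f ζ := by
      obtain ⟨he, hemax⟩ := (exists_generic Z'.1.2).choose_spec
      have h2 : (exists_generic Z'.1.2).choose ⤳ f ζ := by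
        rw [specializes_iff_mem_closure, he]; exact subset_closure rfl
      exact max_of_flat f hmax h2
    exact Set.mem_biUnion ⟨Z', trivial, hgen⟩ ⟨hζU, rfl⟩
  refine Set.Finite.of_finite_image (f := fun Z : ↥(irreducibleComponents ↥X) => (exists_generic Z.2).choose)
    (hF.subset ?_) fun Z _ Z' _ h => ?_
  · rintro _ ⟨Z, hZ, rfl⟩
    exact hsub Z hZ
  · refine Subtype.ext ?_
    rw [← (exists_generic Z.2).choose_spec.1, ← (exists_generic Z'.2).choose_spec.1]
    simp only at h
    rw [h]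

theorem fibreDim_baseChange {X Y X' Y' : Scheme.{u}} (f : X ⟶ Y) [LocallyOfFiniteType f]
    (g : Y' ⟶ Y) (f' : X' ⟶ Y') (g' : X' ⟶ X) (hc : IsPullback g' f' f g) (y' : Y') :
    topologicalKrullDim ↥(f'.fiber y') = topologicalKrullDim ↥(f.fiber (g y')) := by
  have : LocallyOfFiniteType f' :=
    MorphismProperty.of_isPullback (P := (@LocallyOfFiniteType : MorphismProperty Scheme.{u})) hc ‹_›
  rw [FibDim.topologicalKrullDim_fiber f', FibDim.topologicalKrullDim_fiber f]
  refine le_antisymm (iSup_le fun z => ?_) (iSup_le fun x => ?_)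
  · have hz : f (g' z.1) = g y' := by
      have := congrArg (fun h : X' ⟶ Y => h z.1) hc.w
      exact this.trans (congrArg g z.2)
    exact le_trans (by exact_mod_cast FibDim.rd_baseChange_le hc z.1)
      (le_iSup (fun w : ↥(f ⁻¹' {g y'}) => ((FibDim.rd f w.1 : ℕ∞) : WithBot ℕ∞)) ⟨g' z.1, hz⟩)
  · obtain ⟨x', -, hx', hrd⟩ := FibDim.exists_rd_baseChange_eq hc x.1 y' x.2
    rw [← hrd]
    exact le_iSup (fun w : ↥(f' ⁻¹' {y'}) => ((FibDim.rd f' w.1 : ℕ∞) : WithBot ℕ∞)) ⟨x', hx'⟩

end Groth.Agent.SmallFlat
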