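import Mathlib
import Groth.Prelude.Def_DeRham
import Groth.Prelude.Def_W4stkdualitygroupp2Univ

universe u v

namespace Groth.Agent.SmallFlat

theorem kaehlerD_eq_zero_iff (p : ℕ) [Fact p.Prime] (R : Type u) [CommRing R] [CharP R p]
    (σ : Type v) (f : MvPolynomial σ R) :
    KaehlerDifferential.D R (MvPolynomial σ R) f = 0 ↔
      ∃ g : MvPolynomial σ R, f = MvPolynomial.expand p g := by
  classical
  have hp : p.Prime := Fact.out
  constructor
  · intro h
    have hpd : ∀ i, MvPolynomial.pderiv i f = 0 := fun i => by
      have := congrArg (MvPolynomial.pderiv (R := R) i).liftKaehlerDifferential h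
      rwa [Derivation.liftKaehlerDifferential_comp_D, map_zero] at this
    have hdvd : ∀ m ∈ f.support, ∀ i, p ∣ m i := by
      intro m hm i
      by_contra hndvd
      have hmi : m i ≠ 0 := fun h0 => hndvd (h0 ▸ dvd_zero p)
      have hsm : Finsupp.single i 1 ≤ m := Finsupp.single_le_iff.2 (Nat.one_le_iff_ne_zero.2 hmi)
      have h1 := congrArg (MvPolynomial.coeff (m - Finsupp.single i 1)) (hpd i)
      rw [MvPolynomial.coeff_pderiv, tsub_add_cancel_of_le hsm, MvPolynomial.coeff_zero] at h1
      have h2 : ((m - Finsupp.single i 1 : σ →₀ ℕ) i + 1 : R) = (m i : R) := by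
        rw [Finsupp.tsub_apply, Finsupp.single_eq_same, ← Nat.cast_add_one,
          Nat.sub_add_cancel (Nat.one_le_iff_ne_zero.2 hmi)]
      rw [h2] at h1
      have hu : IsUnit (m i : R) := by
        rw [CharP.isUnit_natCast_iff hp]
        exact hndvd
      exact MvPolynomial.mem_support_iff.1 hm (hu.mul_left_eq_zero.1 h1)
    refine ⟨∑ m ∈ f.support, MvPolynomial.monomial (m.mapRange (· / p) (Nat.zero_div p)) (f.coeff m), ?_⟩
    rw [map_sum]
    conv_lhs => rw [← MvPolynomial.support_sum_monomial_coeff f]
    refine Finset.sum_congr rfl fun m hm => ?_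
    rw [MvPolynomial.expand_monomial]
    congr 2
    ext i
    simp [Nat.mul_div_cancel' (hdvd m hm i)]
  · rintro ⟨g, rfl⟩
    induction g using MvPolynomial.induction_on with
    | C a => rw [MvPolynomial.expand_C, ← MvPolynomial.algebraMap_eq, Derivation.map_algebraMap]
    | add a b ha hb => rw [map_add, map_add, ha, hb, add_zero]
    | mul_X a i ha =>
      rw [map_mul, MvPolynomial.expand_X, Derivation.leibniz, ha, Derivation.leibniz_pow, smul_zero,
        add_zero, ← Nat.cast_smul_eq_nsmul (MvPolynomial σ R) p, CharP.cast_eq_zero, zero_smul, smul_zero]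

theorem isDiff_of_isRule (R A : Type u) [CommRing R] [CommRing A] [Algebra R A]
    (d : ∀ p : ℕ, ↥(⋀[A]^p (Ω[A⁄R])) →ₗ[R] ↥(⋀[A]^(p + 1) (Ω[A⁄R])))
    (hd : DeRham.IsRule (KaehlerDifferential.D R A) d) :
    DeRham.IsDiff (KaehlerDifferential.D R A) d := by
  classical
  refine ⟨hd, fun p => ?_⟩
  let δ := KaehlerDifferential.D R A
  let T : Submodule A ↥(⋀[A]^p (Ω[A⁄R])) :=
    Submodule.span A (Set.range fun b : Fin p → A => exteriorPower.ιMulti A p fun i => δ (b i))
  have hT : ∀ (s : Finset (Fin p)) (v : Fin p → Ω[A⁄R]), (∀ i, i ∉ s → v i ∈ Set.range δ) →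
      exteriorPower.ιMulti A p v ∈ T := by
    intro s
    induction s using Finset.induction_on with
    | empty =>
      intro v hv
      choose b hb using fun i => hv i (Finset.notMem_empty i)
      refine Submodule.subset_span ⟨b, ?_⟩
      simp only [hb]
    | @insert i s his ih =>
      intro v hv
      have hvi : v i ∈ Submodule.span A (Set.range δ) := by
        rw [KaehlerDifferential.span_range_derivation]; trivial
      have hup : ∀ w ∈ Submodule.span A (Set.range δ),
          exteriorPower.ιMulti A p (Function.update v i w) ∈ T := by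
        intro w hw
        induction hw using Submodule.span_induction with
        | mem w hw =>
          refine ih _ fun j hj => ?_
          rcases eq_or_ne j i with rfl | hji
          · rwa [Function.update_self]
          · rw [Function.update_of_ne hji]
            exact hv j (by simp [hji, hj])
        | zero =>
          rw [AlternatingMap.map_update_zero]
          exact zero_mem _
        | add x y _ _ hx hy =>
          rw [AlternatingMap.map_update_add]
          exact add_mem hx hy
        | smul a x _ hx =>
          rw [AlternatingMap.map_update_smul]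
          exact T.smul_mem a hx
      have := hup _ hvi
      rwa [Function.update_eq_self] at this
  have htop : ∀ z, z ∈ T := by
    intro z
    have : Submodule.span A (Set.range (exteriorPower.ιMulti A p)) ≤ T := by
      rw [Submodule.span_le]
      rintro _ ⟨v, rfl⟩
      exact hT Finset.univ v fun i hi => absurd (Finset.mem_univ i) hi
    exact this (by rw [exteriorPower.ιMulti_span]; trivial)
  refine LinearMap.ext fun z => ?_
  show d (p + 1) (d p z) = 0
  have key : ∀ z, ∀ a : A, d (p + 1) (d p (a • z)) = 0 := by
    intro z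
    induction htop z using Submodule.span_induction with
    | mem z hz =>
      obtain ⟨b, rfl⟩ := hz
      intro a
      rw [show a • exteriorPower.ιMulti A p (fun i => δ (b i)) = DeRham.gen δ p a b from rfl, hd p a b]
      have h1 : exteriorPower.ιMulti A (p + 1) (Fin.cons (δ a) fun i => δ (b i)) =
          DeRham.gen δ (p + 1) 1 (Fin.cons a b) := by
        rw [DeRham.gen, one_smul]
        congr 1
        funext i
        refine Fin.cases ?_ (fun j => ?_) i <;> simp
      rw [h1, hd (p + 1) 1 (Fin.cons a b), Derivation.map_one_eq_zero]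
      exact AlternatingMap.map_coord_zero _ 0 (Fin.cons_zero _ _)
    | zero => intro a; simp
    | add x y _ _ hx hy => intro a; rw [smul_add, map_add, map_add, hx a, hy a, add_zero]
    | smul c x _ hx => intro a; rw [smul_smul]; exact hx _
  have := key z 1
  rwa [one_smul] at this

theorem exists_map_univPoly_eq (R : Type u) [CommRing R] (n d : ℕ)
    (g : Fin n → MvPolynomial (Fin n) R) (hg : ∀ i, (g i).totalDegree ≤ d) :
    ∃ φ : Synt.UnivBase n d →+* R, ∀ i, MvPolynomial.map φ (Synt.univPoly n d i) = g i := by
  classical
  let φ : Synt.UnivBase n d →+* R :=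
    MvPolynomial.eval₂Hom (Int.castRingHom R) fun iE => (g iE.1).coeff iE.2.exponent
  refine ⟨φ, fun i => MvPolynomial.ext _ _ fun m => ?_⟩
  simp only [Synt.univPoly, map_sum, MvPolynomial.map_monomial, φ, MvPolynomial.eval₂Hom_X',
    MvPolynomial.coeff_sum, MvPolynomial.coeff_monomial]
  by_cases h : ∑ l, m l ≤ d
  · let E : Synt.UnivIdx n d :=
      ⟨fun l => ⟨m l, Nat.lt_succ_of_le ((Finset.single_le_sum (fun _ _ => Nat.zero_le _) (Finset.mem_univ l)).trans h)⟩, h⟩
    have hE : E.exponent = m := Finsupp.ext fun l => rfl
    rw [Finset.sum_eq_single E]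
    · rw [if_pos hE, hE]
    · intro E' _ hne
      refine if_neg fun h' => hne ?_
      refine Subtype.ext (funext fun l => Fin.ext ?_)
      exact congrArg (fun q : Fin n →₀ ℕ => q l) (h'.trans hE.symm)
    · exact fun hh => absurd (Finset.mem_univ E) hh
  · rw [Finset.sum_eq_zero fun E _ => if_neg fun h' => h ?_]
    · by_contra hne
      have hm := MvPolynomial.le_totalDegree (MvPolynomial.mem_support_iff.2 (Ne.symm hne))
      rw [Finsupp.sum_fintype _ _ (fun _ => rfl)] at hm
      exact h (hm.trans (hg i))
    · rw [← h']
      exact E.2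

end Groth.Agent.SmallFlat
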