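import Mathlib

universe u
open Polynomial

namespace Groth.Agent.SmallFlat

theorem formallyUnramified_of_isSeparable (k A : Type u) [Field k] [CommRing A] [Algebra k A]
    [Algebra.IsSeparable k A] : Algebra.FormallyUnramified k A := by
  constructor
  have hx : ∀ x : A, KaehlerDifferential.D k A x = 0 := fun x => by
    have hs : IsSeparable k x := Algebra.IsSeparable.isSeparable k x
    obtain ⟨a, b, hab⟩ := hs
    have h1 : aeval x (derivative (minpoly k x)) * aeval x b = 1 := by
      have := congrArg (aeval x) hab
      rw [map_add, map_mul, map_mul, minpoly.aeval, mul_zero, zero_add, map_one] at this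
      rwa [mul_comm] at this
    have h2 : aeval x (derivative (minpoly k x)) • KaehlerDifferential.D k A x = 0 := by
      rw [← Derivation.map_aeval, minpoly.aeval, map_zero]
    have h3 := congrArg (aeval x b • ·) h2
    simp only [smul_zero, smul_smul] at h3
    rwa [mul_comm, h1, one_smul] at h3
  refine subsingleton_of_forall_eq 0 fun w => ?_
  have hw : w ∈ Submodule.span A (Set.range (KaehlerDifferential.D k A)) := by
    rw [KaehlerDifferential.span_range_derivation]; trivial
  refine (Submodule.span_le (p := (⊥ : Submodule A _))).2 ?_ hw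
  rintro _ ⟨x, rfl⟩
  exact hx x

theorem isSeparable_of_formallyUnramified (k A : Type u) [Field k] [CommRing A] [Algebra k A]
    [Algebra.FiniteType k A] [Algebra.FormallyUnramified k A] : Algebra.IsSeparable k A := by
  classical
  have hE : Algebra.FormallyEtale k A := Algebra.FormallyEtale.of_formallyUnramified_of_field k A
  have : Module.Finite k A := Algebra.FormallyUnramified.finite_of_free k A
  obtain ⟨I, _, Ai, _, _, e, hsep⟩ := (Algebra.FormallyEtale.iff_exists_algEquiv_prod k A).1 hE
  refine ⟨fun x => ?_⟩
  have := Fintype.ofFinite I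
  let s : Finset k[X] := Finset.univ.image fun i => minpoly k (e x i)
  have hq : (∏ q ∈ s, q).Separable := by
    refine separable_prod' (fun q hq r hr hne => ?_) fun q hq => ?_
    · obtain ⟨i, -, rfl⟩ := Finset.mem_image.1 hq
      obtain ⟨j, -, rfl⟩ := Finset.mem_image.1 hr
      have hi : IsIntegral k (e x i) := ((IsIntegral.of_finite k x).map e.toAlgHom).map (Pi.evalAlgHom k Ai i)
      have hj : IsIntegral k (e x j) := ((IsIntegral.of_finite k x).map e.toAlgHom).map (Pi.evalAlgHom k Ai j)
      rw [(minpoly.irreducible hi).coprime_iff_not_dvd]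
      intro hdvd
      exact hne (eq_of_monic_of_associated (minpoly.monic hi) (minpoly.monic hj)
        ((minpoly.irreducible hi).associated_of_dvd (minpoly.irreducible hj) hdvd))
    · obtain ⟨i, -, rfl⟩ := Finset.mem_image.1 hq
      exact Algebra.IsSeparable.isSeparable k (e x i)
  refine hq.of_dvd (minpoly.dvd k x (e.injective ?_))
  rw [map_zero]
  funext i
  show ((Pi.evalAlgHom k Ai i).comp e.toAlgHom) (aeval x (∏ q ∈ s, q)) = 0
  rw [← aeval_algHom_apply, map_prod]
  exact Finset.prod_eq_zero (Finset.mem_image.2 ⟨i, Finset.mem_univ _, rfl⟩) (minpoly.aeval k (e x i))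

end Groth.Agent.SmallFlat
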